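/-
Cartan matrices of the seven types and certificates for their parabolic chains.
-/
import Cfsg.Agent.Chev.WeylChain
import Cfsg.Prelude.Def_ChevStructure

set_option autoImplicit false

namespace CA.Weyl

/-- matrix of a list of lists. -/
def matOf (n : ℕ) (AL : List (List ℤ)) : Fin n → Fin n → ℤ := fun j i => (AL.getD j []).getD i 0

/-- admissible triples (Coxeter entry, two Cartan entries). -/
def okTriple (m : ℕ) (a b : ℤ) : Bool :=
  [(2, 0, 0), (3, -1, -1), (4, -1, -2), (4, -2, -1), (6, -1, -3), (6, -3, -1)].contains (m, a, b)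

theorem isCartanFor_of_chk {n : ℕ} (M : CoxeterMatrix (Fin n)) (A : Fin n → Fin n → ℤ)
    (h : (∀ i, A i i = 2) ∧ ∀ i j, i ≠ j → okTriple (M i j) (A i j) (A j i) = true) :
    IsCartanFor M A :=
  ⟨h.1, fun i j hij => by simpa [okTriple] using h.2 i j hij⟩

/-- Cartan matrix of type B2. -/
def alB2 : List (List ℤ) := [[2, -2], [-1, 2]]

theorem cartanB2 : IsCartanFor (CoxeterMatrix.B 2) (matOf 2 alB2) :=
  isCartanFor_of_chk _ _ (by decide +kernel)

/-- chain certificate of type B2. -/
def chainB2 : List (Fin 2 × ℕ × List (ℕ × ℕ)) :=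
  [(1, 152, [(120, 3), (150, 2), (122, 1), (152, 0)]),
  (0, 137, [(151, 1), (137, 0)])]

theorem chk_chainB2 : chkChain alB2 (fun k : Fin 2 => [k]) (fun k => [k]) (fun _ => 1) chainB2 = true := by
  decide +kernel

theorem all_chainB2 : ∀ k, k ∈ chainB2.map Prod.fst := by decide +kernel

/-- Cartan matrix of type G2. -/
def alG2 : List (List ℤ) := [[2, -3], [-1, 2]]

theorem cartanG2 : IsCartanFor (CoxeterMatrix.G₂) (matOf 2 alG2) :=
  isCartanFor_of_chk _ _ (by decide +kernel)

/-- chain certificate of type G2. -/
def chainG2 : List (Fin 2 × ℕ × List (ℕ × ℕ)) :=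
  [(1, 152, [(120, 5), (149, 4), (107, 3), (165, 2), (123, 1), (152, 0)]),
  (0, 137, [(151, 1), (137, 0)])]

theorem chk_chainG2 : chkChain alG2 (fun k : Fin 2 => [k]) (fun k => [k]) (fun _ => 1) chainG2 = true := by
  decide +kernel

theorem all_chainG2 : ∀ k, k ∈ chainG2.map Prod.fst := by decide +kernel

/-- Cartan matrix of type D4. -/
def alD4 : List (List ℤ) := [[2, -1, 0, 0], [-1, 2, -1, -1], [0, -1, 2, 0], [0, -1, 0, 2]]

theorem cartanD4 : IsCartanFor (Cfsg.Lie.coxeterD4) (matOf 4 alD4) :=
  isCartanFor_of_chk _ _ (by decide +kernel)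

/-- chain certificate of type D4. -/
def chainD4 : List (Fin 4 × ℕ × List (ℕ × ℕ)) :=
  [(3, 39048, [(30856, 6), (39032, 5), (34711, 4), (35207, 3), (34697, 3), (35193, 2), (30872, 1), (39048, 0)]),
  (2, 35208, [(39047, 3), (39033, 2), (34712, 1), (35208, 0)]),
  (1, 34968, [(39303, 2), (39289, 1), (34968, 0)]),
  (0, 34953, [(34967, 1), (34953, 0)])]

theorem chk_chainD4 : chkChain alD4 (fun k : Fin 4 => [k]) (fun k => [k]) (fun _ => 1) chainD4 = true := by
  decide +kernel

theorem all_chainD4 : ∀ k, k ∈ chainD4.map Prod.fst := by decide +kernel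

/-- Cartan matrix of type F4. -/
def alF4 : List (List ℤ) := [[2, -1, 0, 0], [-1, 2, -2, 0], [0, -1, 2, -1], [0, 0, -1, 2]]

theorem cartanF4 : IsCartanFor (CoxeterMatrix.F₄) (matOf 4 alF4) :=
  isCartanFor_of_chk _ _ (by decide +kernel)

/-- chain certificate of type F4. -/
def chainF4 : List (Fin 4 × ℕ × List (ℕ × ℕ)) :=
  [(3, 39048, [(30856, 15), (38792, 14), (35176, 13), (34726, 12), (31110, 11), (34698, 11), (39046, 10), (31082, 10), (39018, 9), (30632, 9), (27016, 8), (38568, 8), (42888, 7), (31336, 7), (39272, 6), (30886, 6), (38822, 5), (30858, 5), (35206, 4), (38794, 4), (35178, 3), (34728, 2), (31112, 1), (39048, 0)]),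
  (2, 35208, [(46984, 6), (43368, 5), (42918, 4), (39302, 3), (42890, 3), (39274, 2), (38824, 1), (35208, 0)]),
  (1, 34968, [(35207, 2), (35193, 1), (34968, 0)]),
  (0, 34953, [(34967, 1), (34953, 0)])]

theorem chk_chainF4 : chkChain alF4 (fun k : Fin 4 => [k]) (fun k => [k]) (fun _ => 1) chainF4 = true := by
  decide +kernel

theorem all_chainF4 : ∀ k, k ∈ chainF4.map Prod.fst := by decide +kernel

/-- Cartan matrix of type E6. -/
def alE6 : List (List ℤ) := [[2, 0, -1, 0, 0, 0], [0, 2, 0, -1, 0, 0], [-1, 0, 2, -1, 0, 0], [0, -1, -1, 2, -1, 0], [0, 0, 0, -1, 2, -1], [0, 0, 0, 0, -1, 2]]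

theorem cartanE6 : IsCartanFor (CoxeterMatrix.E₆) (matOf 6 alE6) :=
  isCartanFor_of_chk _ _ (by decide +kernel)

/-- chain certificate of type E6. -/
def chainE6 : List (Fin 6 × ℕ × List (ℕ × ℕ)) :=
  [(0, 8947849, [(7899272, 16), (9930888, 15), (9009288, 14), (8951672, 13), (8947608, 12), (8948087, 12), (8947833, 11), (8944023, 11), (8943769, 10), (8886407, 10), (7964807, 9), (8886153, 9), (9996423, 8), (7964553, 8), (8882568, 8), (9996169, 7), (7960968, 7), (9992584, 6), (7903352, 6), (9934968, 5), (7899288, 5), (9013368, 4), (9930904, 4), (9009304, 3), (8951688, 2), (8948103, 1), (8947849, 0)]),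
  (5, 9996424, [(7899273, 8), (9930889, 7), (9009289, 6), (8951673, 5), (8947609, 4), (8948088, 4), (8944024, 3), (8886408, 2), (7964808, 1), (9996424, 0)]),
  (4, 9013384, [(10979465, 6), (10057865, 5), (10000249, 4), (9996185, 3), (9996664, 3), (9992600, 2), (9934984, 1), (9013384, 0)]),
  (1, 8947864, [(9013129, 3), (9009544, 2), (8951928, 1), (8947864, 0)]),
  (3, 8951944, [(9013145, 2), (9009560, 1), (8951944, 0)]),
  (2, 8948104, [(8951689, 1), (8948104, 0)])]

theorem chk_chainE6 : chkChain alE6 (fun k : Fin 6 => [k]) (fun k => [k]) (fun _ => 1) chainE6 = true := by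
  decide +kernel

theorem all_chainE6 : ∀ k, k ∈ chainE6.map Prod.fst := by decide +kernel

/-- Cartan matrix of type E7. -/
def alE7 : List (List ℤ) := [[2, 0, -1, 0, 0, 0, 0], [0, 2, 0, -1, 0, 0, 0], [-1, 0, 2, -1, 0, 0, 0], [0, -1, -1, 2, -1, 0, 0], [0, 0, 0, -1, 2, -1, 0], [0, 0, 0, 0, -1, 2, -1], [0, 0, 0, 0, 0, -1, 2]]

theorem cartanE7 : IsCartanFor (CoxeterMatrix.E₇) (matOf 7 alE7) :=
  isCartanFor_of_chk _ _ (by decide +kernel)

/-- chain certificate of type E7. -/
def chainE7 : List (Fin 7 × ℕ × List (ℕ × ℕ)) :=
  [(6, 159942792, [(126388360, 27), (158894216, 26), (144148616, 25), (143227016, 24), (143169400, 23), (143165336, 22), (143165815, 22), (143165561, 21), (143161751, 21), (143161497, 20), (143104135, 20), (142182535, 19), (143103881, 19), (127436935, 18), (142182281, 18), (143100296, 18), (159942791, 17), (127436681, 17), (142178696, 17), (159942537, 16), (127433096, 16), (142121080, 16), (159938952, 15), (127375480, 15), (142117016, 15), (159881336, 14), (126453880, 14), (127371416, 14), (158959736, 13), (159877272, 13), (126449816,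 13), (144214136, 12), (158955672, 12), (126392200, 12), (144210072, 11), (158898056, 11), (126388615, 11), (126388361, 10), (144152456, 10), (158894471, 10), (158894217, 9), (143230856, 9), (144148871, 9), (144148617, 8), (143227271, 8), (143227017, 7), (143169655, 7), (143165591, 6), (143169401, 6), (143165337, 5), (143165816, 5), (143161752, 4), (143104136, 3), (142182536, 2), (127436936, 1), (159942792, 0)]),
  (0, 143165577, [(175671432, 16), (160925832, 15), (160004232, 14), (159946616, 13), (159942552, 12), (159943031, 12), (159942777, 11), (159938967, 11), (159938713, 10), (159881351, 10), (158959751, 9), (159881097, 9), (144214151, 8), (158959497, 8), (159877512, 8), (144213897, 7), (158955912, 7), (144210312, 6), (158898296, 6), (144152696, 5), (158894232, 5), (143231096, 4), (144148632, 4), (143227032, 3), (143169416, 2), (143165831, 1), (143165577, 0)]),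
  (5, 144214152, [(175671433, 8), (160925833, 7), (160004233, 6), (159946617, 5), (159942553, 4), (159943032, 4), (159938968, 3), (159881352, 2), (158959752, 1), (144214152, 0)]),
  (4, 143231112, [(145197193, 6), (144275593, 5), (144217977, 4), (144213913, 3), (144214392, 3), (144210328, 2), (144152712, 1), (143231112, 0)]),
  (1, 143165592, [(143230857, 3), (143227272, 2), (143169656, 1), (143165592, 0)]),
  (3, 143169672, [(143230873, 2), (143227288, 1), (143169672, 0)]),
  (2, 143165832, [(143169417, 1), (143165832, 0)])]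

theorem chk_chainE7 : chkChain alE7 (fun k : Fin 7 => [k]) (fun k => [k]) (fun _ => 1) chainE7 = true := by
  decide +kernel

theorem all_chainE7 : ∀ k, k ∈ chainE7.map Prod.fst := by decide +kernel

/-- Cartan matrix of type E8. -/
def alE8 : List (List ℤ) := [[2, 0, -1, 0, 0, 0, 0, 0], [0, 2, 0, -1, 0, 0, 0, 0], [-1, 0, 2, -1, 0, 0, 0, 0], [0, -1, -1, 2, -1, 0, 0, 0], [0, 0, 0, -1, 2, -1, 0, 0], [0, 0, 0, 0, -1, 2, -1, 0], [0, 0, 0, 0, 0, -1, 2, -1], [0, 0, 0, 0, 0, 0, -1, 2]]

theorem cartanE8 : IsCartanFor (CoxeterMatrix.E₈) (matOf 8 alE8) :=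
  isCartanFor_of_chk _ _ (by decide +kernel)

/-- chain certificate of type E8. -/
def chainE8 : List (Fin 8 × ℕ × List (ℕ × ℕ)) :=
  [(7, 2559084680, [(2022213768, 57), (2542307464, 56), (2306377864, 55), (2291632264, 54), (2290710664, 53), (2290653048, 52), (2290648984, 51), (2290649463, 51), (2290649209, 50), (2290645399, 50), (2290645145, 49), (2290587783, 49), (2289666183, 48), (2290587529, 48), (2274920583, 47), (2289665929, 47), (2290583944, 47), (2038990983, 46), (2274920329, 46), (2289662344, 46), (2559084679, 45), (2038990729, 45), (2274916744, 45), (2289604728, 45), (2559084425, 44), (2038987144, 44), (2274859128, 44), (2289600664, 44), (2559080840, 43), (2038929528, 43), (2273937528, 43), (2274855064, 43), (2559023224, 42), (2038007928, 42), (2038925464, 42), (2273933464, 42), (2558101624, 41), (2559019160, 41), (2023262328, 41), (2038003864, 41), (2273875848, 41), (2543356024, 40), (2558097560, 40), (2023258264, 40), (2037946248, 40), (2273872263, 40), (2273872009, 39), (2307426424, 39), (2543351960, 39), (2558039944, 39), (2023200648,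 39), (2037942663, 39), (2037942409, 38), (2307422360, 38), (2543294344, 38), (2558036359, 38), (2022279048, 38), (2023197063, 38), (2558036105, 37), (2023196809, 37), (2307364744, 37), (2542372744, 37), (2543290759, 37), (2022275463, 37), (2543290505, 36), (2022275209, 36), (2306443144, 36), (2307361159, 36), (2542369159, 36), (2022217847, 36), (2307360905, 35), (2542368905, 35), (2022217593, 35), (2291697544, 35), (2306439559, 35), (2542311543, 35), (2022213783, 35), (2022214008, 34), (2306439305, 34), (2542311289, 34), (2022213529, 34), (2291693959, 34), (2306381943, 34), (2542307479, 34), (2542307704, 33), (2022209944, 33), (2291693705, 33), (2306381689, 33), (2542307225, 33), (2291636343, 33), (2306377879, 33), (2022152328, 32), (2306378104, 32), (2542303640, 32), (2291636089, 32), (2306377625, 32), (2290714743, 32), (2291632279, 32), (2021230728, 31), (2542246024, 31), (2291632504, 31), (2306374040, 31), (2290714489, 31), (2291632025, 31), (2290710679, 31), (2006485128, 30), (2541324424, 30), (2306316424, 30), (2290710904, 30), (2291628440,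 30), (2290710425, 30), (2290653063, 30), (1770555528, 29), (2526578824, 29), (2305394824, 29), (2290649478, 29), (2291570824, 29), (2290653288, 29), (2290706840, 29), (2290652809, 29), (2810742920, 28), (2054719624, 28), (2275903624, 28), (2290648970, 28), (2289727624, 28), (2290645160, 28), (2290591608, 28), (2290645639, 28), (2574813320, 27), (2039974024, 27), (2274982024, 27), (2290645385, 27), (2289670008, 27), (2290587544, 27), (2290588023, 27), (2560067720, 26), (2039052424, 26), (2274924408, 26), (2290587769, 26), (2289665944, 26), (2289666423, 26), (2290583959, 26), (2559146120, 25), (2038994808, 25), (2274920344, 25), (2274920823, 25), (2289666169, 25), (2290583705, 25), (2289662359, 25), (2559088504, 24), (2038990744, 24), (2038991223, 24), (2274920569, 24), (2274916759, 24), (2289662105, 24), (2289604743, 24), (2559084440, 23), (2559084919, 23), (2038990969, 23), (2038987159, 23), (2274916505, 23), (2274859143, 23), (2289604489, 23), (2559084665, 22), (2559080855, 22), (2038986905, 22), (2038929543, 22), (2273937543, 22), (2274858889,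 22), (2289600904, 22), (2559080601, 21), (2559023239, 21), (2038007943, 21), (2038929289, 21), (2273937289, 21), (2274855304, 21), (2558101639, 20), (2559022985, 20), (2023262343, 20), (2038007689, 20), (2038925704, 20), (2273933704, 20), (2543356039, 19), (2558101385, 19), (2559019400, 19), (2023262089, 19), (2038004104, 19), (2273876088, 19), (2307426439, 18), (2543355785, 18), (2558097800, 18), (2023258504, 18), (2037946488, 18), (2273872024, 18), (2307426185, 17), (2543352200, 17), (2558040184, 17), (2023200888, 17), (2037942424, 17), (2307422600, 16), (2543294584, 16), (2558036120, 16), (2022279288, 16), (2023196824, 16), (2307364984, 15), (2542372984, 15), (2543290520, 15), (2022275224, 15), (2306443384, 14), (2307360920, 14), (2542368920, 14), (2022217608, 14), (2291697784, 13), (2306439320, 13), (2542311304, 13), (2022214023, 13), (2022213769, 12), (2291693720, 12), (2306381704, 12), (2542307719, 12), (2542307465, 11), (2291636104, 11), (2306378119, 11), (2306377865, 10), (2290714504, 10), (2291632519, 10), (2291632265, 9), (2290710919,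 9), (2290710665, 8), (2290653303, 8), (2290649239, 7), (2290653049, 7), (2290648985, 6), (2290649464, 6), (2290645400, 5), (2290587784, 4), (2289666184, 3), (2274920584, 2), (2038990984, 1), (2559084680, 0)]),
  (6, 2307426440, [(3079178376, 27), (2843248776, 26), (2828503176, 25), (2827581576, 24), (2827523960, 23), (2827519896, 22), (2827520375, 22), (2827520121, 21), (2827516311, 21), (2827516057, 20), (2827458695, 20), (2826537095, 19), (2827458441, 19), (2811791495, 18), (2826536841, 18), (2827454856, 18), (2575861895, 17), (2811791241, 17), (2826533256, 17), (2575861641, 16), (2811787656, 16), (2826475640, 16), (2575858056, 15), (2811730040, 15), (2826471576, 15), (2575800440, 14), (2810808440, 14), (2811725976, 14), (2574878840, 13), (2575796376, 13), (2810804376, 13), (2560133240, 12), (2574874776, 12), (2810746760, 12), (2560129176, 11), (2574817160, 11), (2810743175, 11), (2810742921, 10), (2560071560, 10), (2574813575, 10), (2574813321, 9), (2559149960, 9), (2560067975, 9), (2560067721, 8), (2559146375, 8), (2559146121, 7), (2559088759,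 7), (2559084695, 6), (2559088505, 6), (2559084441, 5), (2559084920, 5), (2559080856, 4), (2559023240, 3), (2558101640, 2), (2543356040, 1), (2307426440, 0)]),
  (0, 2290649225, [(2323155080, 16), (2308409480, 15), (2307487880, 14), (2307430264, 13), (2307426200, 12), (2307426679, 12), (2307426425, 11), (2307422615, 11), (2307422361, 10), (2307364999, 10), (2306443399, 9), (2307364745, 9), (2291697799, 8), (2306443145, 8), (2307361160, 8), (2291697545, 7), (2306439560, 7), (2291693960, 6), (2306381944, 6), (2291636344, 5), (2306377880, 5), (2290714744, 4), (2291632280, 4), (2290710680, 3), (2290653064, 2), (2290649479, 1), (2290649225, 0)]),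
  (5, 2291697800, [(2323155081, 8), (2308409481, 7), (2307487881, 6), (2307430265, 5), (2307426201, 4), (2307426680, 4), (2307422616, 3), (2307365000, 2), (2306443400, 1), (2291697800, 0)]),
  (4, 2290714760, [(2292680841, 6), (2291759241, 5), (2291701625, 4), (2291697561, 3), (2291698040, 3), (2291693976, 2), (2291636360, 1), (2290714760, 0)]),
  (1, 2290649240, [(2290714505, 3), (2290710920, 2), (2290653304, 1), (2290649240, 0)]),
  (3, 2290653320, [(2290714521, 2), (2290710936, 1), (2290653320, 0)]),
  (2, 2290649480, [(2290653065, 1), (2290649480, 0)])]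

theorem chk_chainE8 : chkChain alE8 (fun k : Fin 8 => [k]) (fun k => [k]) (fun _ => 1) chainE8 = true := by
  decide +kernel

theorem all_chainE8 : ∀ k, k ∈ chainE8.map Prod.fst := by decide +kernel

end CA.Weyl

theorem CA.realizeEqns_WeylData : True := by
  have := @CA.Weyl.chainF4.eq_1
  have := @CA.Weyl.chainF4.eq_def
  have := @CA.Weyl.chainF4.congr_simp
  have := @CA.Weyl.matOf.eq_1
  have := @CA.Weyl.matOf.eq_def
  have := @CA.Weyl.matOf.congr_simp
  have := @CA.Weyl.alF4.eq_1
  have := @CA.Weyl.alF4.eq_def
  have := @CA.Weyl.alF4.congr_simp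
  have := @CA.Weyl.alD4.eq_1
  have := @CA.Weyl.alD4.eq_def
  have := @CA.Weyl.alD4.congr_simp
  have := @CA.Weyl.alE7.eq_1
  have := @CA.Weyl.alE7.eq_def
  have := @CA.Weyl.alE7.congr_simp
  have := @CA.Weyl.chainE8.eq_1
  have := @CA.Weyl.chainE8.eq_def
  have := @CA.Weyl.chainE8.congr_simp
  have := @CA.Weyl.okTriple.eq_1
  have := @CA.Weyl.okTriple.eq_def
  have := @CA.Weyl.okTriple.congr_simp
  have := @CA.Weyl.chainD4.eq_1
  have := @CA.Weyl.chainD4.eq_def
  have := @CA.Weyl.chainD4.congr_simp
  have := @CA.Weyl.alG2.eq_1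
  have := @CA.Weyl.alG2.eq_def
  have := @CA.Weyl.alG2.congr_simp
  have := @CA.Weyl.chainE6.eq_1
  have := @CA.Weyl.chainE6.eq_def
  have := @CA.Weyl.chainE6.congr_simp
  have := @CA.Weyl.chainG2.eq_1
  have := @CA.Weyl.chainG2.eq_def
  have := @CA.Weyl.chainG2.congr_simp
  have := @CA.Weyl.alE8.eq_1
  have := @CA.Weyl.alE8.eq_def
  have := @CA.Weyl.alE8.congr_simp
  have := @CA.Weyl.chainB2.eq_1
  have := @CA.Weyl.chainB2.eq_def
  have := @CA.Weyl.chainB2.congr_simp
  have := @CA.Weyl.alE6.eq_1
  have := @CA.Weyl.alE6.eq_def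
  have := @CA.Weyl.alE6.congr_simp
  have := @CA.Weyl.chainE7.eq_1
  have := @CA.Weyl.chainE7.eq_def
  have := @CA.Weyl.chainE7.congr_simp
  have := @CA.Weyl.alB2.eq_1
  have := @CA.Weyl.alB2.eq_def
  have := @CA.Weyl.alB2.congr_simp
  trivial
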